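import Mathlib.RingTheory.Valuation.ValuationSubring
import Mathlib.RingTheory.Valuation.ValuationRing
import Mathlib.RingTheory.Spectrum.Maximal.Basic
import Mathlib.RingTheory.Localization.AtPrime.Basic
import Mathlib.RingTheory.Localization.AsSubring
import Mathlib.RingTheory.Ideal.Operations
import Mathlib.Algebra.Field.Subfield.Basic
import Mathlib.Algebra.CharP.Basic
import Mathlib.GroupTheory.OrderOfElement
import Mathlib.Algebra.Ring.GeomSum
import Mathlib.Data.Nat.Prime.Infinite

/-!
Prüfer domains through fractions; intersections with subfields.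
-/

universe u

namespace Groth.Agent.PruferH7

/-- A local ring of a domain is a valuation ring iff any two elements are comparable. -/
theorem valuationRing_atPrime_iff {R : Type u} [CommRing R] [IsDomain R] (p : Ideal R) [p.IsPrime] :
    ValuationRing (Localization.AtPrime p) ↔ ∀ a b : R, ∃ n s : R, s ∉ p ∧ (s * a = n * b ∨ s * b = n * a) := by
  have hinj : Function.Injective (algebraMap R (Localization.AtPrime p)) :=
    IsLocalization.injective _ p.primeCompl_le_nonZeroDivisors
  constructor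
  · intro hv a b
    obtain ⟨c, h⟩ := hv.toPreValuationRing.cond (algebraMap R (Localization.AtPrime p) a) (algebraMap R _ b)
    obtain ⟨n, s, rfl⟩ := IsLocalization.exists_mk'_eq p.primeCompl c
    refine ⟨n, s, s.2, h.symm.imp (fun h => hinj ?_) (fun h => hinj ?_)⟩ <;>
      rw [map_mul, map_mul, ← h, mul_left_comm, IsLocalization.mk'_spec', mul_comm]
  · intro h
    haveI : IsDomain (Localization.AtPrime p) :=
      IsLocalization.isDomain_of_le_nonZeroDivisors _ p.primeCompl_le_nonZeroDivisors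
    rw [ValuationRing.iff_dvd_total]
    refine ⟨fun x y => ?_⟩
    obtain ⟨a, s, rfl⟩ := IsLocalization.exists_mk'_eq p.primeCompl x
    obtain ⟨b, t, rfl⟩ := IsLocalization.exists_mk'_eq p.primeCompl y
    have key : ∀ a b n u : R, u ∉ p → u * a = n * b →
        (algebraMap R (Localization.AtPrime p) b) ∣ algebraMap R _ a := fun a b n u hu e =>
      ((IsLocalization.map_units (Localization.AtPrime p) (⟨u, hu⟩ : p.primeCompl)).dvd_mul_left).mp
        ⟨algebraMap R _ n, by rw [← map_mul, ← map_mul, e, mul_comm]⟩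
    have hu : ∀ (c : R) (v : p.primeCompl), Associated (algebraMap R (Localization.AtPrime p) c) (IsLocalization.mk' _ c v) :=
      fun c v => by
        refine Associated.symm ⟨(IsLocalization.map_units (Localization.AtPrime p) v).unit, ?_⟩
        rw [IsUnit.unit_spec, IsLocalization.mk'_spec]
    obtain ⟨n, u, hu', e | e⟩ := h a b
    · exact Or.inr ((hu b t).dvd_iff_dvd_left.mp ((hu a s).dvd_iff_dvd_right.mp (key a b n u hu' e)))
    · exact Or.inl ((hu a s).dvd_iff_dvd_left.mp ((hu b t).dvd_iff_dvd_right.mp (key b a n u hu' e)))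

theorem valuationRing_localization {R : Type u} [CommRing R] [IsDomain R]
    (hR : ∀ (p : Ideal R) [p.IsPrime], ValuationRing (Localization.AtPrime p))
    (S : Submonoid R) (B : Type u) [CommRing B] [IsDomain B] [Algebra R B] [IsLocalization S B]
    (q : Ideal B) [q.IsPrime] : ValuationRing (Localization.AtPrime q) := by
  rw [valuationRing_atPrime_iff]
  intro x y
  obtain ⟨a, s, rfl⟩ := IsLocalization.exists_mk'_eq S x
  obtain ⟨b, t, rfl⟩ := IsLocalization.exists_mk'_eq S y
  obtain ⟨n, u, hu, e⟩ := (valuationRing_atPrime_iff (q.comap (algebraMap R B))).mp (hR _) (a * t) (b * s)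
  refine ⟨algebraMap R B n, algebraMap R B u, hu, e.imp (fun e => ?_) (fun e => ?_)⟩
  · refine (((IsLocalization.map_units B s).mul (IsLocalization.map_units B t)).mul_left_inj).mp ?_
    calc _ = algebraMap R B u * (IsLocalization.mk' B a s * algebraMap R B s * algebraMap R B t) := by ring
      _ = algebraMap R B (n * (b * s)) := by rw [IsLocalization.mk'_spec, ← map_mul, ← map_mul, e]
      _ = algebraMap R B n * ((IsLocalization.mk' B b t * algebraMap R B t) * algebraMap R B s) := by
            rw [IsLocalization.mk'_spec, ← map_mul, ← map_mul]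
      _ = _ := by ring
  · refine (((IsLocalization.map_units B s).mul (IsLocalization.map_units B t)).mul_left_inj).mp ?_
    calc _ = algebraMap R B u * (IsLocalization.mk' B b t * algebraMap R B t * algebraMap R B s) := by ring
      _ = algebraMap R B (n * (a * t)) := by rw [IsLocalization.mk'_spec, ← map_mul, ← map_mul, e]
      _ = algebraMap R B n * ((IsLocalization.mk' B a s * algebraMap R B s) * algebraMap R B t) := by
            rw [IsLocalization.mk'_spec, ← map_mul, ← map_mul]
      _ = _ := by ring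

theorem valuationRing_quotient {R : Type u} [CommRing R] [IsDomain R]
    (hR : ∀ (p : Ideal R) [p.IsPrime], ValuationRing (Localization.AtPrime p))
    (I : Ideal R) [I.IsPrime] (q : Ideal (R ⧸ I)) [q.IsPrime] : ValuationRing (Localization.AtPrime q) := by
  rw [valuationRing_atPrime_iff]
  intro x y
  obtain ⟨a, rfl⟩ := Ideal.Quotient.mk_surjective x
  obtain ⟨b, rfl⟩ := Ideal.Quotient.mk_surjective y
  obtain ⟨n, u, hu, e⟩ := (valuationRing_atPrime_iff (q.comap (Ideal.Quotient.mk I))).mp (hR _) a b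
  exact ⟨Ideal.Quotient.mk I n, Ideal.Quotient.mk I u, hu,
    e.imp (fun e => by rw [← map_mul, e, map_mul]) (fun e => by rw [← map_mul, e, map_mul])⟩

section inter

variable {L : Type u} [Field L]

/-- A geometric sum of suitable prime length splits an element in finitely many valuation rings. -/
theorem exists_geom_sum {ι : Type*} [Finite ι] (V : ι → ValuationSubring L) (x : L) :
    ∃ k : ℕ, ∀ i, ∃ hb : (∑ j ∈ Finset.range k, x ^ j)⁻¹ ∈ V i,
      x * (∑ j ∈ Finset.range k, x ^ j)⁻¹ ∈ V i ∧ ∑ j ∈ Finset.range k, x ^ j ≠ 0 ∧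
        (x ∈ V i → IsUnit (⟨_, hb⟩ : V i)) := by
  classical
  cases nonempty_fintype ι
  let bad : ι → ℕ := fun i => if h : x ∈ V i then
    orderOf (IsLocalRing.residue (V i) ⟨x, h⟩) + ringChar (IsLocalRing.ResidueField (V i)) else 0
  obtain ⟨k, hk, hkp⟩ := Nat.exists_infinite_primes (Finset.univ.sup bad + 2)
  refine ⟨k, fun i => ?_⟩
  set q := ∑ j ∈ Finset.range k, x ^ j with hq
  have hbad : bad i + 2 ≤ k := (Nat.add_le_add_right (Finset.le_sup (Finset.mem_univ i)) 2).trans hk
  by_cases hx : x ∈ V i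
  · let ξ : V i := ⟨x, hx⟩
    have hbk : orderOf (IsLocalRing.residue (V i) ξ) + ringChar (IsLocalRing.ResidueField (V i)) + 2 ≤ k := by
      simpa [bad, dif_pos hx] using hbad
    have hne : IsLocalRing.residue (V i) (∑ j ∈ Finset.range k, ξ ^ j) ≠ 0 := by
      intro h0
      rw [map_sum] at h0
      simp only [map_pow] at h0
      set z := IsLocalRing.residue (V i) ξ
      have hz : z ^ k = 1 := by
        have := geom_sum_mul z k
        rw [h0, zero_mul] at this
        exact sub_eq_zero.mp this.symm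
      rcases hkp.eq_one_or_self_of_dvd _ (orderOf_dvd_of_pow_eq_one hz) with h1 | h1
      · rw [orderOf_eq_one_iff] at h1
        simp only [h1, one_pow, Finset.sum_const, Finset.card_range, nsmul_eq_mul, mul_one] at h0
        rcases hkp.eq_one_or_self_of_dvd _ (ringChar.dvd h0) with h2 | h2
        · exact CharP.ringChar_ne_one h2
        · omega
      · omega
    obtain ⟨w, hw⟩ := (IsLocalRing.residue_ne_zero_iff_isUnit _).mp hne
    have hwq : (w.1 : L) = q := by rw [hw, hq, ← ValuationSubring.subtype_apply, map_sum]; simp [ξ]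
    have hq0 : q ≠ 0 := by
      rw [← hwq]
      intro h
      exact w.ne_zero (Subtype.ext h)
    have hinv : q⁻¹ = ((w⁻¹ : (V i)ˣ).1 : L) := by
      refine (eq_inv_of_mul_eq_one_left ?_).symm
      rw [← hwq]
      exact congrArg Subtype.val w.inv_mul
    have hb : q⁻¹ ∈ V i := by rw [hinv]; exact (w⁻¹ : (V i)ˣ).1.2
    exact ⟨hb, (V i).mul_mem _ _ hx hb, hq0, fun _ => ⟨w⁻¹, Subtype.ext hinv.symm⟩⟩
  · have hy : x⁻¹ ∈ V i := ((V i).mem_or_inv_mem x).resolve_left hx
    have hx0 : x ≠ 0 := fun h => hx (h ▸ (V i).zero_mem)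
    have hyn : (⟨x⁻¹, hy⟩ : V i) ∈ IsLocalRing.maximalIdeal (V i) := by
      rw [IsLocalRing.mem_maximalIdeal, mem_nonunits_iff]
      intro hu
      obtain ⟨c, hc⟩ := hu.exists_left_inv
      have : x = (c : L) := by
        have := congrArg Subtype.val hc
        exact (eq_inv_of_mul_eq_one_left this).trans (inv_inv x) |>.symm
      exact hx (this ▸ c.2)
    let η : V i := ⟨x⁻¹, hy⟩
    obtain ⟨m, rfl⟩ : ∃ m, k = m + 2 := ⟨k - 2, by omega⟩
    have hu : IsUnit (∑ j ∈ Finset.range (m + 1 + 1), η ^ j) := by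
      rw [Finset.sum_range_succ']
      refine (IsLocalRing.residue_ne_zero_iff_isUnit _).mp ?_
      simp [pow_succ, (IsLocalRing.residue_eq_zero_iff η).mpr hyn]
    obtain ⟨w, hw⟩ := hu
    have hqw : q = x ^ (m + 1) * (w.1 : L) := by
      rw [hq, hw, ← ValuationSubring.subtype_apply, map_sum, Finset.mul_sum,
        ← Finset.sum_range_reflect (fun j => x ^ j) (m + 2)]
      refine Finset.sum_congr rfl fun j hj => ?_
      have hj' : j ≤ m + 1 := by simp only [Finset.mem_range] at hj; omega
      simp only [map_pow, ValuationSubring.subtype_apply, η, inv_pow]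
      rw [show m + 2 - 1 - j = m + 1 - j by omega, pow_sub₀ _ hx0 hj']
    have hwinv : (w.1 : L)⁻¹ = ((w⁻¹ : (V i)ˣ).1 : L) :=
      (eq_inv_of_mul_eq_one_left (congrArg Subtype.val w.inv_mul)).symm
    have hmem : (w.1 : L)⁻¹ ∈ V i := hwinv ▸ (w⁻¹ : (V i)ˣ).1.2
    refine ⟨?_, ?_, ?_, fun h => absurd h hx⟩
    · rw [hqw, mul_inv, ← inv_pow]
      exact (V i).mul_mem _ _ (pow_mem hy _) hmem
    · rw [hqw, mul_inv, ← mul_assoc, pow_succ', mul_inv, ← mul_assoc x, mul_inv_cancel₀ hx0, one_mul, ← inv_pow]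
      exact (V i).mul_mem _ _ (pow_mem hy _) hmem
    · rw [hqw]
      exact mul_ne_zero (pow_ne_zero _ hx0) fun h => w.ne_zero (Subtype.ext h)

variable (R : Type u) [CommRing R] [IsDomain R] [Algebra R L] [IsFractionRing R L]

/-- The valuation subring of a maximal ideal. -/
noncomputable def valAt (hR : ∀ (p : Ideal R) [p.IsPrime], ValuationRing (Localization.AtPrime p))
    (m : MaximalSpectrum R) : ValuationSubring L :=
  haveI := m.isMaximal
  ValuationSubring.ofSubring (Localization.subalgebra.ofField L _ m.asIdeal.primeCompl_le_nonZeroDivisors).toSubring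
    fun x => by
      obtain ⟨a, b, hb, rfl⟩ := IsFractionRing.div_surjective R x
      have ha0 : ∀ c : R, c ≠ 0 → algebraMap R L c ≠ 0 := fun c hc h =>
        hc (IsFractionRing.to_map_eq_zero_iff.mp h)
      by_cases ha : a = 0
      · left; simp [ha]
      obtain ⟨n, s, hs, e | e⟩ := (valuationRing_atPrime_iff m.asIdeal).mp (hR _) a b
      · refine Or.inl ⟨n, s, hs, ?_⟩
        rw [← div_eq_mul_inv, div_eq_div_iff (ha0 b (nonZeroDivisors.ne_zero hb)) (ha0 s fun h => hs (h ▸ zero_mem _)),
          ← map_mul, ← map_mul, mul_comm a s, e]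
      · refine Or.inr ⟨n, s, hs, ?_⟩
        rw [inv_div, ← div_eq_mul_inv, div_eq_div_iff (ha0 a ha) (ha0 s fun h => hs (h ▸ zero_mem _)),
          ← map_mul, ← map_mul, mul_comm b s, e]

theorem range_eq_inter (hR : ∀ (p : Ideal R) [p.IsPrime], ValuationRing (Localization.AtPrime p)) (x : L) :
    x ∈ (algebraMap R L).range ↔ ∀ m, x ∈ valAt R hR m := by
  refine ⟨?_, fun h => ?_⟩
  · rintro ⟨a, rfl⟩ m
    exact Subalgebra.algebraMap_mem _ a
  let J : Ideal R := Submodule.comap (LinearMap.toSpanSingleton R L x) (LinearMap.range (Algebra.linearMap R L))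
  suffices J = ⊤ by
    obtain ⟨a, ha⟩ := (this ▸ trivial : (1 : R) ∈ J)
    exact ⟨a, by simpa using ha⟩
  by_contra hJ
  obtain ⟨m, hm, hJm⟩ := Ideal.exists_le_maximal J hJ
  obtain ⟨a, s, hs, rfl⟩ := h ⟨m, hm⟩
  refine hs (hJm ⟨a, ?_⟩)
  have hs0 : algebraMap R L s ≠ 0 := fun h => hs (IsFractionRing.to_map_eq_zero_iff.mp h ▸ zero_mem _)
  simp only [Algebra.linearMap_apply, LinearMap.toSpanSingleton_apply, Algebra.smul_def]
  field_simp

/-- A semilocal Prüfer domain meets a subfield in a semilocal Prüfer domain. -/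
theorem inter_subfield (hR : ∀ (p : Ideal R) [p.IsPrime], ValuationRing (Localization.AtPrime p))
    (hfin : Finite (MaximalSpectrum R)) (K : Subfield L) :
    (∀ (p : Ideal ↥((algebraMap R L).range ⊓ K.toSubring)) [p.IsPrime],
        ValuationRing (Localization.AtPrime p)) ∧
      Finite (MaximalSpectrum ↥((algebraMap R L).range ⊓ K.toSubring)) ∧
      ∀ x : L, x ∈ K → ∃ a b : L, a ∈ (algebraMap R L).range ⊓ K.toSubring ∧
        b ∈ (algebraMap R L).range ⊓ K.toSubring ∧ b ≠ 0 ∧ x = a / b := by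
  classical
  cases nonempty_fintype (MaximalSpectrum R)
  let V := valAt (L := L) R hR
  let T := (algebraMap R L).range ⊓ K.toSubring
  have hT : ∀ y : L, y ∈ T ↔ (∀ m, y ∈ V m) ∧ y ∈ K := fun y => and_congr_left' (range_eq_inter R hR y)
  let c : MaximalSpectrum R → Ideal T := fun m =>
    (IsLocalRing.maximalIdeal (V m)).comap (Subring.inclusion (show T ≤ (V m).toSubring from fun y hy => ((hT y).mp hy).1 m))
  have key : ∀ x ∈ K, ∃ a b : T, (b : L) ≠ 0 ∧ x * b = a ∧ ∀ m, x ∈ V m → b ∉ c m := by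
    intro x hx
    obtain ⟨k, hk⟩ := exists_geom_sum V x
    set q := ∑ j ∈ Finset.range k, x ^ j
    have hqK : q⁻¹ ∈ K := K.inv_mem (sum_mem fun j _ => pow_mem hx j)
    have hbT : q⁻¹ ∈ T := (hT _).mpr ⟨fun m => (hk m).fst, hqK⟩
    have haT : x * q⁻¹ ∈ T := (hT _).mpr ⟨fun m => (hk m).snd.1, K.mul_mem hx hqK⟩
    refine ⟨⟨_, haT⟩, ⟨_, hbT⟩, ?_, rfl, fun m hxm => ?_⟩
    · obtain ⟨m⟩ : Nonempty (MaximalSpectrum R) := inferInstance
      exact inv_ne_zero (hk m).snd.2.1
    · rw [Ideal.mem_comap, IsLocalRing.mem_maximalIdeal, mem_nonunits_iff, not_not]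
      exact (hk m).snd.2.2 hxm
  have hle : ∀ p : Ideal T, p ≠ ⊤ → ∃ m, p ≤ c m := by
    intro p hp
    have : (p : Set T) ⊆ ⋃ m ∈ ((Finset.univ : Finset (MaximalSpectrum R)) : Set (MaximalSpectrum R)), (c m : Set T) := by
      intro t ht
      by_contra hc
      simp only [Finset.coe_univ, Set.mem_univ, Set.iUnion_true, Set.mem_iUnion, not_exists] at hc
      refine hp (Ideal.eq_top_of_isUnit_mem p ht ?_)
      have hinv : ∀ m, (t : L)⁻¹ ∈ V m ∧ (t : L) ≠ 0 := by
        intro m
        have h1 := hc m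
        rw [SetLike.mem_coe, Ideal.mem_comap, IsLocalRing.mem_maximalIdeal, mem_nonunits_iff, not_not] at h1
        obtain ⟨w, hw⟩ := h1
        have e : ((w⁻¹ : (V m)ˣ).1 : L) * (t : L) = 1 := by
          rw [show (t : L) = (w.1 : L) from (congrArg Subtype.val hw).symm]
          exact congrArg Subtype.val w.inv_mul
        exact ⟨eq_inv_of_mul_eq_one_left e ▸ (w⁻¹ : (V m)ˣ).1.2, right_ne_zero_of_mul_eq_one e⟩
      obtain ⟨m⟩ : Nonempty (MaximalSpectrum R) := inferInstance
      exact isUnit_iff_exists_inv.mpr ⟨⟨(t : L)⁻¹, (hT _).mpr ⟨fun m => (hinv m).1, K.inv_mem t.2.2⟩⟩,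
        Subtype.ext (mul_inv_cancel₀ (hinv m).2)⟩
    obtain ⟨m, -, hm⟩ := (Ideal.subset_union_prime (s := Finset.univ) (Classical.arbitrary _) (Classical.arbitrary _)
      (fun m _ _ _ => inferInstanceAs (c m).IsPrime)).mp this
    exact ⟨m, hm⟩
  refine ⟨fun p hp => ?_, ?_, fun x hx => ?_⟩
  · rw [valuationRing_atPrime_iff]
    obtain ⟨m, hm⟩ := hle p hp.ne_top
    suffices h : ∀ a b : T, (a : L) / b ∈ V m → (b : L) ≠ 0 → ∃ n s : T, s ∉ p ∧ s * a = n * b by
      intro a b
      by_cases hb : (b : L) = 0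
      · exact ⟨0, 1, fun h => hp.ne_top ((Ideal.eq_top_iff_one _).mpr h), Or.inr (by rw [show b = 0 from Subtype.ext hb]; simp)⟩
      rcases (V m).mem_or_inv_mem ((a : L) / b) with h' | h'
      · obtain ⟨n, s, hs, e⟩ := h a b h' hb
        exact ⟨n, s, hs, Or.inl e⟩
      · by_cases ha : (a : L) = 0
        · exact ⟨0, 1, fun h => hp.ne_top ((Ideal.eq_top_iff_one _).mpr h), Or.inl (by rw [show a = 0 from Subtype.ext ha]; simp)⟩
        obtain ⟨n, s, hs, e⟩ := h b a (by rwa [inv_div] at h') ha
        exact ⟨n, s, hs, Or.inr e⟩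
    intro a b hab hb
    obtain ⟨n, s, -, e, hs⟩ := key _ (K.div_mem a.2.2 b.2.2)
    refine ⟨n, s, fun h => hs m hab (hm h), Subtype.ext ?_⟩
    rw [Subring.coe_mul, Subring.coe_mul, ← e]
    field_simp
  · refine Finite.of_injective (β := MaximalSpectrum R) (fun P => (hle P.asIdeal P.isMaximal.ne_top).choose)
      fun P Q h => MaximalSpectrum.ext ?_
    have e : ∀ P : MaximalSpectrum T, P.asIdeal = c (hle P.asIdeal P.isMaximal.ne_top).choose := fun P =>
      P.isMaximal.eq_of_le (Ideal.IsPrime.ne_top inferInstance) (hle P.asIdeal P.isMaximal.ne_top).choose_spec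
    exact (e P).trans ((congrArg c h).trans (e Q).symm)
  · obtain ⟨a, b, hb, e, -⟩ := key x hx
    exact ⟨a, b, a.2, b.2, hb, (eq_div_iff hb).mpr e⟩

end inter

end Groth.Agent.PruferH7
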