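import Groth.Agent.Lib.PruferH7.Basic
import Mathlib.RingTheory.Ideal.Height
import Mathlib.RingTheory.Spectrum.Maximal.Basic

/-!
A semilocal Prüfer domain of finite dimension has finite spectrum.
-/

universe u

namespace Groth.Agent.PruferH7

theorem comparable_of_le {R : Type u} [CommRing R] [IsDomain R]
    (hR : ∀ (p : Ideal R) [p.IsPrime], ValuationRing (Localization.AtPrime p))
    (M : Ideal R) [M.IsPrime] (p q : Ideal R) (hp : p.IsPrime) (hq : q.IsPrime) (hpM : p ≤ M) (hqM : q ≤ M) :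
    p ≤ q ∨ q ≤ p := by
  by_contra hc
  simp only [not_or, SetLike.not_le_iff_exists] at hc
  obtain ⟨⟨x, hxp, hxq⟩, y, hyq, hyp⟩ := hc
  obtain ⟨n, s, hs, e | e⟩ := (Groth.Agent.PruferH7.valuationRing_atPrime_iff M).1 (hR M) x y
  · exact (hq.mem_or_mem (e ▸ q.mul_mem_left n hyq : s * x ∈ q)).elim (fun h => hs (hqM h)) hxq
  · exact (hp.mem_or_mem (e ▸ p.mul_mem_left n hxp : s * y ∈ p)).elim (fun h => hs (hpM h)) hyp

theorem finite_primeSpectrum {R : Type u} [CommRing R] [IsDomain R]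
    (hR : ∀ (p : Ideal R) [p.IsPrime], ValuationRing (Localization.AtPrime p))
    (hfin : Finite (MaximalSpectrum R)) (hdim : ringKrullDim R < ⊤) : Finite (PrimeSpectrum R) := by
  choose M hM hle using fun p : PrimeSpectrum R => p.asIdeal.exists_le_maximal p.2.ne_top
  obtain ⟨N, hN⟩ : ∃ N : ℕ, ∀ p : PrimeSpectrum R, p.asIdeal.height ≤ (N : ℕ∞) := by
    have h0 := ringKrullDim_nonneg_of_nontrivial (R := R)
    obtain ⟨d, hd⟩ := WithBot.ne_bot_iff_exists.1 (ne_bot_of_gt (lt_of_lt_of_le (WithBot.bot_lt_coe (0 : ℕ∞)) h0))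
    obtain ⟨N, hN⟩ := ENat.ne_top_iff_exists.1 (show d ≠ ⊤ by rintro rfl; rw [← hd] at hdim; exact lt_irrefl _ hdim)
    refine ⟨N, fun p => ?_⟩
    have := Ideal.height_le_ringKrullDim_of_ne_top (I := p.asIdeal) p.2.ne_top
    rw [← hd, ← hN] at this
    exact_mod_cast this
  refine Finite.of_injective (β := MaximalSpectrum R × Fin (N + 1))
    (fun p => (⟨M p, hM p⟩, ⟨p.asIdeal.height.toNat, Nat.lt_succ_of_le (ENat.toNat_le_of_le_coe (hN p))⟩)) fun p q h => ?_
  simp only [Prod.mk.injEq, MaximalSpectrum.mk.injEq, Fin.mk.injEq] at h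
  have hfin : ∀ r : PrimeSpectrum R, r.asIdeal.height ≠ ⊤ := fun r => ne_top_of_le_ne_top (ENat.coe_ne_top N) (hN r)
  have hh : p.asIdeal.height = q.asIdeal.height := by
    rw [← ENat.coe_toNat (hfin p), ← ENat.coe_toNat (hfin q), h.2]
  haveI := (hM p).isPrime
  have key : ∀ r r' : PrimeSpectrum R, r.asIdeal.height = r'.asIdeal.height → r.asIdeal ≤ r'.asIdeal → r = r' := by
    intro r r' hrr hle'
    by_contra hne
    have hlt : r.asIdeal < r'.asIdeal := lt_of_le_of_ne hle' fun e => hne (PrimeSpectrum.ext e)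
    have : r.asIdeal.FiniteHeight := ⟨Or.inr (hfin r)⟩
    have := Ideal.height_strict_mono_of_isPrime hlt
    exact this.ne hrr
  rcases comparable_of_le hR (M p) p.asIdeal q.asIdeal p.2 q.2 (hle p) (h.1 ▸ hle q) with h' | h'
  · exact key p q hh h'
  · exact (key q p hh.symm h').symm

end Groth.Agent.PruferH7
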